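import Groth.Agent.Lib.BlowUp26.Basic
import Groth.Agent.Lib.BlowUpReg6.Main
import Groth.Agent.Lib.Stein6.UnibranchFibres
import Mathlib

/-! # Closed fibres of blow-ups of unibranch local domains -/

set_option autoImplicit false
universe u
set_option backward.isDefEq.respectTransparency.types false

open CategoryTheory CategoryTheory.Limits AlgebraicGeometry TopologicalSpace

namespace Groth.Agent.BlowUpFib6

theorem isLocalRing_normRed_of_ringEquiv {A B : Type u} [CommRing A] [CommRing B] [IsLocalRing A] [IsLocalRing B]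
    [IsDomain A] [IsDomain B] (F : Type u) [Field F] [Algebra B F] [IsFractionRing B F]
    (e : A ≃+* B) (h : CAlg2.IsUnibranch A) : IsLocalRing (CAlg2.normRed B) := by
  letI : Algebra A B := e.toRingHom.toAlgebra
  letI : Algebra A F := ((algebraMap B F).comp e.toRingHom).toAlgebra
  haveI : IsScalarTower A B F := IsScalarTower.of_algebraMap_eq' rfl
  haveI : FaithfulSMul A F := (faithfulSMul_iff_algebraMap_injective A F).mpr
    ((IsFractionRing.injective B F).comp e.injective)
  haveI : IsFractionRing A F := IsFractionRing.of_field A F fun z => by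
    obtain ⟨x, y, -, h⟩ := IsFractionRing.div_surjective B z
    exact ⟨e.symm x, e.symm y, by
      rw [← h]
      show algebraMap B F x / algebraMap B F y = algebraMap B F (e (e.symm x)) / algebraMap B F (e (e.symm y))
      rw [e.apply_symm_apply, e.apply_symm_apply]⟩
  haveI : Algebra.IsIntegral A B := ⟨fun b => by
    have : b = algebraMap A B (e.symm b) := (e.apply_symm_apply b).symm
    rw [this]; exact isIntegral_algebraMap⟩
  haveI := Stein6.isLocalRing_integralClosure A F h
  obtain ⟨E, -⟩ := Stein6.exists_normRed_equiv B F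
  let g : ↥(integralClosure A F) ≃+* ↥(integralClosure B F) :=
    { toFun := fun x => ⟨x.1, IsIntegral.tower_top x.2⟩
      invFun := fun y => ⟨y.1, isIntegral_trans y.1 y.2⟩
      left_inv := fun _ => rfl
      right_inv := fun _ => rfl
      map_mul' := fun _ _ => rfl
      map_add' := fun _ _ => rfl }
  exact (g.trans E.symm).isLocalRing

theorem isUnibranch_of_ringEquiv {A B : Type u} [CommRing A] [CommRing B] [IsLocalRing A] [IsLocalRing B]
    [IsDomain A] [IsDomain B] (e : A ≃+* B) (h : CAlg2.IsUnibranch A) : CAlg2.IsUnibranch B :=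
  ⟨(Stein6.redEquiv B).toMulEquiv.isDomain B, isLocalRing_normRed_of_ringEquiv (FractionRing B) e h⟩

theorem exists_maximal_generization {X : Scheme.{u}} (x : X) :
    ∃ ζ : X, (∀ z, z ⤳ ζ → z = ζ) ∧ ζ ⤳ x := by
  obtain ⟨ζ, hζ⟩ := QuasiSober.sober (isIrreducible_irreducibleComponent (x := x)) isClosed_irreducibleComponent
  refine ⟨ζ, fun z hz => ?_, hζ.specializes mem_irreducibleComponent⟩
  have h1 : irreducibleComponent x ⊆ closure {z} := hζ.def ▸ closure_minimal (Set.singleton_subset_iff.mpr hz.mem_closure) isClosed_closure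
  have h2 : closure ({z} : Set X) = irreducibleComponent x :=
    (eq_irreducibleComponent isIrreducible_singleton.closure.isPreirreducible h1)
  exact (IsGenericPoint.eq (show IsGenericPoint z (irreducibleComponent x) from h2) hζ)

variable {X Y : Scheme.{u}} [IsIntegral Y] {I : Y.IdealSheafData} {b : X ⟶ Y}

theorem isIntegral_of_isBlowUp (hb : BlowUp.IsBlowUp b I) [Nonempty X] :
    ∃ _ : IsIntegral X, b (genericPoint X) = genericPoint Y ∧ genericPoint Y ∉ I.support := by
  have hbij := BlowUp26.bijOn_maximalPoints hb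
  haveI := BlowUp26.isReduced_of_isBlowUp hb
  have hmax : ∀ ζ : X, (∀ z, z ⤳ ζ → z = ζ) → b ζ = genericPoint Y ∧ genericPoint Y ∉ I.support :=
    fun ζ hζ => by
      obtain ⟨h1, h2⟩ := hbij.mapsTo hζ
      have h := h1 _ ((genericPoint_spec Y).specializes trivial)
      rw [h]
      exact ⟨rfl, h2⟩
  obtain ⟨ξ, hξ, -⟩ := exists_maximal_generization (Classical.arbitrary X)
  have hgen : ∀ x : X, ξ ⤳ x := fun x => by
    obtain ⟨ζ, hζ, hζx⟩ := exists_maximal_generization x
    rw [hbij.injOn hξ hζ ((hmax ξ hξ).1.trans (hmax ζ hζ).1.symm)]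
    exact hζx
  haveI : IrreducibleSpace X := by
    refine irreducibleSpace_def _ |>.mpr ?_
    have : (⊤ : Set X) = closure {ξ} := by
      ext x; simp only [Set.top_eq_univ, Set.mem_univ, true_iff]; exact (hgen x).mem_closure
    rw [this]
    exact isIrreducible_singleton.closure
  haveI : IsIntegral X := isIntegral_of_irreducibleSpace_of_isReduced X
  have : genericPoint X = ξ := hξ _ ((genericPoint_spec X).specializes trivial)
  exact ⟨inferInstance, this ▸ hmax ξ hξ⟩

theorem connectedSpace_fiber_blowUp [IsProper b] [Nonempty X] (hb : BlowUp.IsBlowUp b I) (y : Y)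
    (hy : CAlg2.IsUnibranch (Y.presheaf.stalk y)) : ConnectedSpace ↥(b.fiber y) := by
  obtain ⟨hX, hgen, hη⟩ := isIntegral_of_isBlowUp hb
  have hdom : b.base (genericPoint X) ⤳ genericPoint Y := specializes_of_eq hgen
  refine Stein6.connectedSpace_fiber b hdom (fun x _ => ⟨0, ?_⟩) y hy
  rw [pow_zero, pow_one]
  haveI := Groth.Agent.EffCartier.isIso_blowUp_restrict hb
  let U : Y.Opens := Groth.Agent.EffCartier.cmpl I
  haveI : IsIso (b.stalkMap (genericPoint X)) := by
    have hmem : genericPoint X ∈ b ⁻¹ᵁ U := by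
      show b (genericPoint X) ∉ I.support
      rw [hgen]; exact hη
    exact (MorphismProperty.arrow_mk_iso_iff (MorphismProperty.isomorphisms _)
      (morphismRestrictStalkMap b U ⟨genericPoint X, hmem⟩)).mp (inferInstanceAs (IsIso _))
  haveI : IsIso (Y.presheaf.stalkSpecializes hdom) := by
    have aux : ∀ {p q : Y} (h : p ⤳ q), p = q → IsIso (Y.presheaf.stalkSpecializes h) := by
      rintro p q h rfl
      rw [TopCat.Presheaf.stalkSpecializes_refl]; infer_instance
    exact aux hdom hgen
  exact ⟨(asIso (Y.presheaf.stalkSpecializes hdom ≫ b.stalkMap (genericPoint X))).commRingCatIsoToRingEquiv.symm x,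
    (asIso (Y.presheaf.stalkSpecializes hdom ≫ b.stalkMap (genericPoint X))).commRingCatIsoToRingEquiv.apply_symm_apply x⟩

theorem preconnectedSpace_closedFibre (A : Type u) [CommRing A] [IsDomain A] [IsNoetherianRing A] [IsLocalRing A]
    (hA : CAlg2.IsUnibranch A) {X : Scheme.{u}} {b : X ⟶ Spec (CommRingCat.of A)}
    {I : (Spec (CommRingCat.of A)).IdealSheafData} (hb : BlowUp.IsBlowUp b I) :
    PreconnectedSpace ↥(b.fiber (IsLocalRing.closedPoint A)) := by
  rcases isEmpty_or_nonempty X with hX | hX
  · haveI : IsEmpty ↥(b.fiber (IsLocalRing.closedPoint A)) :=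
      ⟨fun z => hX.false (b.fiberι _ z)⟩
    exact ⟨Set.Subsingleton.isPreconnected Set.subsingleton_univ⟩
  haveI : IsProper b := Groth.Agent.BlowUpExist.isProper (BlowUpReg6.isFiniteTypeIdeal I) hb
  haveI : IsDomain ↑((Spec (CommRingCat.of A)).presheaf.stalk (IsLocalRing.closedPoint A)) :=
    (stalkClosedPointIso (CommRingCat.of A)).commRingCatIsoToRingEquiv.toMulEquiv.isDomain _
  have hu : CAlg2.IsUnibranch ↑((Spec (CommRingCat.of A)).presheaf.stalk (IsLocalRing.closedPoint A)) :=
    isUnibranch_of_ringEquiv (stalkClosedPointIso (CommRingCat.of A)).commRingCatIsoToRingEquiv.symm hA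
  haveI := connectedSpace_fiber_blowUp hb _ hu
  infer_instance

end Groth.Agent.BlowUpFib6
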